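import Groth.Agent.ResProp.EF.K743.Iface2
import Mathlib.LinearAlgebra.Dimension.StrongRankCondition
import Mathlib.LinearAlgebra.TensorProduct.Basic
import Mathlib.RingTheory.TensorProduct.Basic
import Mathlib.LinearAlgebra.Basis.VectorSpace
import Mathlib.LinearAlgebra.Matrix.Determinant.Basic

/-!
# G1B-F2: the data at the point (`StmtPtData`)
-/

set_option autoImplicit false
set_option linter.style.haveILetI false

universe u

open Groth.Agent.Grpsch.AffGrpd TensorProduct

namespace Groth.Agent.ResProp.EF.K484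

/-- a finite family of vectors contains a basis of its span -/
theorem exists_coords {K : Type*} [Field K] {M : Type*} [AddCommGroup M] [Module K M] {ι : Type*} (c : ι → M)
    [Finite ι] :
    ∃ (r : ℕ) (I : Fin r → ι) (V : ι → Fin r → K), LinearIndependent K (fun a => c (I a)) ∧
      (∀ j, c j = ∑ a, V j a • c (I a)) ∧ ∀ i a, V (I i) a = if i = a then 1 else 0 := by
  classical
  have : Module.Finite K (Submodule.span K (Set.range c)) :=
    Module.Finite.span_of_finite K (Set.finite_range c)
  obtain ⟨f, hf, hs, hl⟩ := Submodule.exists_fun_fin_finrank_span_eq K (Set.range c)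
  choose I hI using hf
  have hcI : (fun a => c (I a)) = f := funext hI
  have hV : ∀ j, ∃ V : Fin (Module.finrank K (Submodule.span K (Set.range c))) → K, ∑ a, V a • c (I a) = c j := by
    intro j
    have h : c j ∈ Submodule.span K (Set.range f) := by
      rw [hs]; exact Submodule.subset_span ⟨j, rfl⟩
    rw [← hcI] at h
    exact (Submodule.mem_span_range_iff_exists_fun K).1 h
  choose V hV using hV
  refine ⟨_, I, V, by rw [hcI]; exact hl, fun j => (hV j).symm, fun i a => ?_⟩
  have hl' : LinearIndependent K (fun a => c (I a)) := by rw [hcI]; exact hl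
  have h := Fintype.linearIndependent_iff.1 hl' (fun a => V (I i) a - if i = a then 1 else 0) (by
    simp only [sub_smul, Finset.sum_sub_distrib, hV, ite_smul, one_smul, zero_smul, Finset.sum_ite_eq,
      Finset.mem_univ, if_true, sub_self])
  exact sub_eq_zero.1 (h a)

/-- coefficients are unique -/
theorem coeff_unique {K : Type*} [Field K] {M : Type*} [AddCommGroup M] [Module K M] {r : ℕ} {v : Fin r → M}
    (hv : LinearIndependent K v) {a b : Fin r → K} (h : ∑ i, a i • v i = ∑ i, b i • v i) : a = b := by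
  funext i
  have := Fintype.linearIndependent_iff.1 hv (fun a' => a a' - b a') (by
    simp only [sub_smul, Finset.sum_sub_distrib, h, sub_self])
  exact sub_eq_zero.1 (this i)

/-- linear independence after base change -/
theorem tmul_eq_zero {K : Type*} [Field K] {M : Type*} [AddCommGroup M] [Module K M] {T : Type*} [CommRing T]
    [Algebra K T] {r : ℕ} {v : Fin r → M} (hv : LinearIndependent K v) (d : Fin r → T)
    (h : ∑ a, d a ⊗ₜ[K] v a = 0) : d = 0 := by
  classical
  obtain ⟨g, hg⟩ := LinearMap.exists_leftInverse_of_injective (Fintype.linearCombination K v)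
    (LinearMap.ker_eq_bot.2 (linearIndependent_iff_injective_fintypeLinearCombination.1 hv))
  have hgv : ∀ a, g (v a) = Pi.single a 1 := by
    intro a
    have := LinearMap.congr_fun hg (Pi.single a 1)
    simpa [Fintype.linearCombination_apply_single] using this
  funext b
  have h2 := congrArg (TensorProduct.rid K T ∘ LinearMap.lTensor T ((LinearMap.proj b).comp g)) h
  simpa [hgv, Pi.single_apply, map_sum] using h2

section

variable {A Γ : Type u} [CommRing A] [CommRing Γ] (G : RGrpd A Γ) (X : K743.Gens G) (m : ℕ) {K : Type u} [Field K]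
  (x : A →+* K)

/-- F2 -/
theorem ptData : Nonempty (K743.PtData G X m x) := by
  classical
  letI := x.toAlgebra
  letI := G.s.toAlgebra
  -- `Γ_x`
  let E := K ⊗[A] Γ
  let ir : Γ →+* E := (Algebra.TensorProduct.includeRight : Γ →ₐ[A] E).toRingHom
  have hir : ir.comp G.s = (algebraMap K E).comp x := by
    ext a
    change (1 : K) ⊗ₜ[A] (G.s a) = (x a) ⊗ₜ[A] (1 : Γ)
    have h1 : G.s a = a • (1 : Γ) := by rw [Algebra.smul_def]; simp; rfl
    have h2 : x a = a • (1 : K) := by rw [Algebra.smul_def]; simp; rfl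
    rw [h1, h2, TensorProduct.tmul_smul, TensorProduct.smul_tmul']
  -- its universal property
  have hlift : ∀ {T : Type u} [CommRing T] (y : K →+* T) (h : Γ →+* T), h.comp G.s = y.comp x →
      ∃ f : E →+* T, f.comp (algebraMap K E) = y ∧ f.comp ir = h := by
    intro T _ y h e
    letI := (y.comp x).toAlgebra
    let fy : K →ₐ[A] T := { y with commutes' := fun a => rfl }
    let fh : Γ →ₐ[A] T := { h with commutes' := fun a => RingHom.congr_fun e a }
    let f := Algebra.TensorProduct.lift fy fh (fun a b => Commute.all _ _)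
    refine ⟨f.toRingHom, ?_, ?_⟩
    · ext k
      change f (k ⊗ₜ[A] (1 : Γ)) = y k
      rw [Algebra.TensorProduct.lift_tmul]
      simp [fy]
    · ext b
      change f ((1 : K) ⊗ₜ[A] b) = h b
      rw [Algebra.TensorProduct.lift_tmul]
      simp [fh]
  let c : Fin X.n → E := fun j => ir (X.x j)
  obtain ⟨r₁, I₁, V₁, l₁, h₁, d₁⟩ := exists_coords (K := K) c
  let cm : (Fin m → Fin X.n) → E := fun J => ∏ k, c (J k)
  have hcm : ∀ J, ir (X.mon J) = cm J := fun J => by
    simp [cm, c, K743.Gens.mon, map_prod]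
  obtain ⟨r₂, I₂, V₂, l₂, h₂, d₂⟩ := exists_coords (K := K) cm
  -- the key identity
  have key : ∀ (J : Fin m → Fin X.n) (b : Fin r₂),
      ∑ κ : Fin m → Fin r₁, (∏ k, V₁ (J k) (κ k)) * V₂ (fun k => I₁ (κ k)) b = V₂ J b := by
    intro J b
    have : (fun b => ∑ κ : Fin m → Fin r₁, (∏ k, V₁ (J k) (κ k)) * V₂ (fun k => I₁ (κ k)) b) = V₂ J := by
      apply coeff_unique l₂
      rw [← h₂ J]
      have e1 : cm J = ∑ κ : Fin m → Fin r₁, (∏ k, V₁ (J k) (κ k)) • cm (fun k => I₁ (κ k)) := by
        change ∏ k, c (J k) = _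
        rw [Finset.prod_congr rfl (fun k _ => h₁ (J k)), Fintype.prod_sum]
        refine Finset.sum_congr rfl fun κ _ => ?_
        rw [Finset.prod_smul]
      rw [e1]
      simp only [Finset.sum_smul, mul_smul]
      rw [Finset.sum_comm]
      refine Finset.sum_congr rfl fun κ _ => ?_
      rw [← Finset.smul_sum, ← h₂]
    exact congrFun this b
  refine ⟨{
    r₁ := r₁
    r₂ := r₂
    V₁ := V₁
    μ₀ := fun κ b => V₂ (fun k => I₁ (κ k)) b
    span₁ := ⟨I₁, ?_⟩
    span₂ := ⟨I₂, ?_⟩
    w₁ := fun y h e a => h (X.x (I₁ a))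
    w₂ := fun y h e b => h (X.mon (I₂ b))
    hw₁ := ?_
    hw₂ := ?_
    hμ := ?_
    inj₁ := ?_
    inj₂ := ?_ }⟩
  · have : (Matrix.of fun i a => V₁ (I₁ i) a) = (1 : Matrix (Fin r₁) (Fin r₁) K) := by
      ext i a; simp [d₁, Matrix.one_apply]
    rw [this, Matrix.det_one]; exact one_ne_zero
  · have : (Matrix.of fun i b => ∑ κ : Fin m → Fin r₁, (∏ k, V₁ (I₂ i k) (κ k)) * V₂ (fun k => I₁ (κ k)) b) =
        (1 : Matrix (Fin r₂) (Fin r₂) K) := by
      ext i b; simp [key, d₂, Matrix.one_apply]
    rw [this, Matrix.det_one]; exact one_ne_zero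
  · intro T _ y h e j
    obtain ⟨f, hy, hh⟩ := hlift y h e
    have := congrArg f (h₁ j)
    have hc : ∀ j, f (c j) = h (X.x j) := fun j => RingHom.congr_fun hh (X.x j)
    have hk : ∀ k : K, f (algebraMap K E k) = y k := fun k => RingHom.congr_fun hy k
    simpa only [map_sum, Algebra.smul_def, map_mul, hc, hk, mul_comm] using this
  · intro T _ y h e J
    obtain ⟨f, hy, hh⟩ := hlift y h e
    have := congrArg f (h₂ J)
    have hc : ∀ J, f (cm J) = h (X.mon J) := fun J => by
      rw [← hcm]; exact RingHom.congr_fun hh (X.mon J)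
    have hk : ∀ k : K, f (algebraMap K E k) = y k := fun k => RingHom.congr_fun hy k
    simp only [key]
    simpa only [map_sum, Algebra.smul_def, map_mul, hc, hk, mul_comm] using this
  · intro T _ y h e κ
    obtain ⟨f, hy, hh⟩ := hlift y h e
    have := congrArg f (h₂ (fun k => I₁ (κ k)))
    have hc : ∀ J, f (cm J) = h (X.mon J) := fun J => by
      rw [← hcm]; exact RingHom.congr_fun hh (X.mon J)
    have hk : ∀ k : K, f (algebraMap K E k) = y k := fun k => RingHom.congr_fun hy k
    have e2 : h (X.mon (fun k => I₁ (κ k))) = ∏ i, h (X.x (I₁ (κ i))) := by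
      simp [K743.Gens.mon, map_prod]
    rw [← e2]
    simpa only [map_sum, Algebra.smul_def, map_mul, hc, hk, mul_comm] using this
  · intro T _ y d hd
    letI := y.toAlgebra
    apply tmul_eq_zero l₁ d
    let f : T →+* T ⊗[K] E := (Algebra.TensorProduct.includeLeft : T →ₐ[K] T ⊗[K] E).toRingHom
    let g : E →+* T ⊗[K] E := (Algebra.TensorProduct.includeRight : E →ₐ[K] T ⊗[K] E).toRingHom
    have e : (g.comp ir).comp G.s = (f.comp y).comp x := by
      rw [RingHom.comp_assoc, hir]
      ext a
      change (1 : T) ⊗ₜ[K] (algebraMap K E (x a)) = (y (x a)) ⊗ₜ[K] (1 : E)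
      have h1 : algebraMap K E (x a) = (x a) • (1 : E) := by rw [Algebra.smul_def, mul_one]
      have h2 : y (x a) = (x a) • (1 : T) := by rw [Algebra.smul_def, mul_one]; rfl
      rw [h1, h2, TensorProduct.tmul_smul, TensorProduct.smul_tmul']
    have := hd f (g.comp ir) e
    rw [← this]
    refine Finset.sum_congr rfl fun a _ => ?_
    change d a ⊗ₜ[K] c (I₁ a) = ((1 : T) ⊗ₜ[K] c (I₁ a)) * (d a ⊗ₜ[K] (1 : E))
    rw [Algebra.TensorProduct.tmul_mul_tmul, one_mul, mul_one]
  · intro T _ y d hd
    letI := y.toAlgebra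
    apply tmul_eq_zero l₂ d
    let f : T →+* T ⊗[K] E := (Algebra.TensorProduct.includeLeft : T →ₐ[K] T ⊗[K] E).toRingHom
    let g : E →+* T ⊗[K] E := (Algebra.TensorProduct.includeRight : E →ₐ[K] T ⊗[K] E).toRingHom
    have e : (g.comp ir).comp G.s = (f.comp y).comp x := by
      rw [RingHom.comp_assoc, hir]
      ext a
      change (1 : T) ⊗ₜ[K] (algebraMap K E (x a)) = (y (x a)) ⊗ₜ[K] (1 : E)
      have h1 : algebraMap K E (x a) = (x a) • (1 : E) := by rw [Algebra.smul_def, mul_one]
      have h2 : y (x a) = (x a) • (1 : T) := by rw [Algebra.smul_def, mul_one]; rfl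
      rw [h1, h2, TensorProduct.tmul_smul, TensorProduct.smul_tmul']
    have := hd f (g.comp ir) e
    rw [← this]
    refine Finset.sum_congr rfl fun a _ => ?_
    change d a ⊗ₜ[K] cm (I₂ a) = ((g.comp ir) (X.mon (I₂ a))) * (d a ⊗ₜ[K] (1 : E))
    have e3 : (g.comp ir) (X.mon (I₂ a)) = (1 : T) ⊗ₜ[K] cm (I₂ a) := by
      rw [← hcm]; rfl
    rw [e3, Algebra.TensorProduct.tmul_mul_tmul, one_mul, mul_one]

end

theorem stmtPtData : K743.StmtPtData.{u} := fun G X m _ _ x => ptData G X m x

end Groth.Agent.ResProp.EF.K484
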